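import Mathlib
import Cfsg.Agent.Lib.PLocal.Stable

/-! All `p`-local subgroups inside the normalizer of `Z(J(P))`. -/

set_option autoImplicit false

namespace Cfsg.Agent.Lib.PLocal

open Subgroup Cfsg
open scoped commutatorElement

variable {G : Type*} [Group G] [Finite G] {p : ℕ} [Fact p.Prime]

/-- Normalizers grow in `p`-groups. -/
theorem exists_mem_normalizer_of_lt {T₀ T : Subgroup G} (hT : IsPGroup p T) (hlt : T₀ < T) :
    ∃ t ∈ T, t ∉ T₀ ∧ t ∈ normalizer (T₀ : Set G) := by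
  have hnle : ¬ (⊤ : Subgroup ↥T) ≤ T₀.subgroupOf T := by
    intro hle
    obtain ⟨x, hxT, hx⟩ := SetLike.exists_of_lt hlt
    exact hx (hle (Subgroup.mem_top (⟨x, hxT⟩ : ↥T)))
  obtain ⟨⟨b, hbT⟩, -, hbN, hbM⟩ := exists_mem_normalizer_not_mem hT (⊤ : Subgroup ↥T) (T₀.subgroupOf T) hnle
  refine ⟨b, hbT, hbM, ?_⟩
  have h1 : ∀ (c : ↥T), c ∈ normalizer ((T₀.subgroupOf T : Subgroup ↥T) : Set ↥T) →
      ∀ z ∈ T₀, (c : G) * z * (c : G)⁻¹ ∈ T₀ := by
    intro c hc z hz
    have hzT : z ∈ T := hlt.le hz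
    have h2 := (mem_normalizer_iff.mp hc ⟨z, hzT⟩).mp hz
    exact h2
  refine mem_normalizer_iff.mpr fun z => ⟨fun hz => h1 _ hbN z hz, fun hz => ?_⟩
  have h2 := h1 _ (inv_mem hbN) _ hz
  have h3 : ((⟨b, hbT⟩ : ↥T)⁻¹ : ↥T).1 * (b * z * b⁻¹) * (((⟨b, hbT⟩ : ↥T)⁻¹ : ↥T).1)⁻¹ = z := by
    simp [mul_assoc]
  rwa [h3] at h2

/-- Strict growth in order. -/
lemma card_lt_of_lt {A B : Subgroup G} (h : A < B) : Nat.card A < Nat.card B := by
  apply lt_of_le_of_ne (Subgroup.card_le_of_le h.le)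
  intro heq
  exact (ne_of_lt h) (Subgroup.eq_of_le_of_card_ge h.le heq.ge)

/-- `Z(J(T))` is conjugation invariant. -/
theorem centerThompsonAOf_conj (T : Subgroup G) (g : G) :
    (centerThompsonAOf T).map (MulAut.conj g).toMonoidHom =
      centerThompsonAOf (T.map (MulAut.conj g).toMonoidHom) :=
  centerThompsonAOf_map _ fun x _ hx => (MulAut.conj g).injective (by simpa using hx)

theorem normalizer_le_normalizer_centerThompsonAOf (T : Subgroup G) :
    normalizer (T : Set G) ≤ normalizer (centerThompsonAOf T : Set G) := by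
  intro g hg
  rw [← Cfsg.Agent.Lib.Transfer.map_conj_eq_iff, centerThompsonAOf_conj,
    Cfsg.Agent.Lib.Transfer.map_conj_eq_iff.mpr hg]

theorem centerThompsonAOf_le (T : Subgroup G) : centerThompsonAOf T ≤ T :=
  inf_le_left.trans (thompsonAOf_le T)

/-- `Z(J(T)) ≠ 1` for `T ≠ 1` a `p`-group. -/
theorem centerThompsonAOf_ne_bot {T : Subgroup G} (hT : IsPGroup p T) (hne : T ≠ ⊥) :
    centerThompsonAOf T ≠ ⊥ := by
  -- `T` has a nontrivial abelian subgroup, so `J(T) ≠ 1`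
  obtain ⟨x, hxT, hx1⟩ : ∃ x ∈ T, x ≠ 1 := by
    obtain h | h := Subgroup.bot_or_exists_ne_one T
    · exact absurd h hne
    · exact h
  obtain ⟨A, hA⟩ := exists_mem_maxAbelian ↥T
  have hAne : Nontrivial ↥A := by
    have hc : IsMulCommutative ↥(zpowers (⟨x, hxT⟩ : ↥T)) := isMulCommutative_iff.mpr fun a ha b hb => by
      obtain ⟨i, rfl⟩ := ha
      obtain ⟨j, rfl⟩ := hb
      exact ((Commute.refl _).zpow_zpow i j).eq
    have h1 := hA.2 _ hc
    have hx' : (⟨x, hxT⟩ : ↥T) ≠ 1 := fun h => hx1 (congrArg Subtype.val h)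
    have h2 : 1 < Nat.card ↥(zpowers (⟨x, hxT⟩ : ↥T)) := by
      rw [Nat.card_zpowers]
      have h3 : 0 < orderOf (⟨x, hxT⟩ : ↥T) := orderOf_pos _
      have h4 : orderOf (⟨x, hxT⟩ : ↥T) ≠ 1 := fun h => hx' (orderOf_eq_one_iff.mp h)
      omega
    exact Finite.one_lt_card_iff_nontrivial.mp (lt_of_lt_of_le h2 h1)
  set J : Subgroup G := thompsonSubgroupAOf T with hJ
  have hJT : J ≤ T := thompsonAOf_le T
  have hJp : IsPGroup p J := hT.to_le hJT
  haveI hJne : Nontrivial ↥J := by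
    obtain ⟨a, ha⟩ := exists_ne (1 : ↥A)
    refine ⟨⟨⟨(a.1 : G), ⟨a.1, le_thompsonA hA a.2, rfl⟩⟩, 1, ?_⟩⟩
    intro h
    apply ha
    have h1 : ((a.1 : ↥T) : G) = 1 := congrArg Subtype.val h
    exact Subtype.ext (Subtype.ext h1)
  haveI := hJp.center_nontrivial
  obtain ⟨⟨⟨z, hzJ⟩, hzc⟩, hz1⟩ := exists_ne (1 : ↥(center ↥J))
  intro hb
  apply hz1
  have hz : z ∈ centerThompsonAOf T := by
    refine ⟨hzJ, mem_centralizer_iff.mpr fun j hj => ?_⟩
    have := (Subgroup.mem_center_iff.mp hzc) ⟨j, hj⟩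
    exact congrArg Subtype.val this
  rw [hb, Subgroup.mem_bot] at hz
  exact Subtype.ext (Subtype.ext hz)

/-- A `p`-subgroup of `L`, with `P ≤ L` Sylow in `G`, can be conjugated into `P` inside `L`. -/
theorem exists_conj_le_of_le (P : Sylow p G) {L T : Subgroup G} (hPL : (P : Subgroup G) ≤ L)
    (hTL : T ≤ L) (hT : IsPGroup p T) : ∃ l ∈ L, ∀ x ∈ T, l * x * l⁻¹ ∈ (P : Subgroup G) := by
  have hT' : IsPGroup p (T.subgroupOf L) := by
    have := hT
    exact IsPGroup.comap_of_injective hT L.subtype L.subtype_injective |>.to_le (by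
      intro x hx
      exact hx)
  obtain ⟨Sg, hSg⟩ := hT'.exists_le_sylow
  obtain ⟨⟨l, hl⟩, hg⟩ := MulAction.exists_smul_eq ↥L Sg (P.subtype hPL)
  refine ⟨l, hl, fun x hx => ?_⟩
  have h1 : (⟨x, hTL hx⟩ : ↥L) ∈ (Sg : Subgroup ↥L) := hSg hx
  have h2 : (⟨l, hl⟩ : ↥L) * ⟨x, hTL hx⟩ * (⟨l, hl⟩ : ↥L)⁻¹ ∈ ((P.subtype hPL : Sylow p ↥L) : Subgroup ↥L) := by
    rw [← hg]
    exact ⟨⟨x, hTL hx⟩, h1, rfl⟩
  rw [Sylow.coe_subtype, mem_subgroupOf] at h2
  exact h2

/-- S0658 -/
theorem normalizer_le_normalizer_zj (hp : p ≠ 2)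
    (hloc : ∀ Q : Subgroup G, IsPGroup p Q → Q ≠ ⊥ → pPrimeCore p ↥(normalizer (Q : Set G)) = ⊥ ∧
      IsPConstrained p ↥(normalizer (Q : Set G)) ∧ IsPStable p ↥(normalizer (Q : Set G)))
    (P : Sylow p G) (Q : Subgroup G) (hQP : Q ≤ (P : Subgroup G)) (hQ1 : Q ≠ ⊥) :
    normalizer (Q : Set G) ≤ normalizer (centerThompsonAOf (P : Subgroup G) : Set G) := by
  set L : Subgroup G := normalizer (centerThompsonAOf (P : Subgroup G) : Set G) with hL
  have hPL : (P : Subgroup G) ≤ L :=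
    (le_normalizer (H := (P : Subgroup G))).trans (normalizer_le_normalizer_centerThompsonAOf _)
  suffices h : ∀ n : ℕ, ∀ Q : Subgroup G, Q ≤ (P : Subgroup G) → Q ≠ ⊥ →
      Nat.card G - Nat.card ↥((P : Subgroup G) ⊓ normalizer (Q : Set G)) = n → normalizer (Q : Set G) ≤ L from
    h _ Q hQP hQ1 rfl
  intro n
  induction n using Nat.strong_induction_on with
  | _ n ih =>
    intro Q hQP hQ1 hn
    -- the induction hypothesis in a usable form
    have IH : ∀ Q' : Subgroup G, Q' ≤ (P : Subgroup G) → Q' ≠ ⊥ →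
        Nat.card ↥((P : Subgroup G) ⊓ normalizer (Q : Set G)) <
          Nat.card ↥((P : Subgroup G) ⊓ normalizer (Q' : Set G)) → normalizer (Q' : Set G) ≤ L := by
      intro Q' h1 h2 h3
      have h4 : Nat.card ↥((P : Subgroup G) ⊓ normalizer (Q' : Set G)) ≤ Nat.card G :=
        Subgroup.card_le_card_group _
      exact ih _ (by omega) Q' h1 h2 rfl
    set T₀ : Subgroup G := (P : Subgroup G) ⊓ normalizer (Q : Set G) with hT₀
    have hQT₀ : Q ≤ T₀ := le_inf hQP le_normalizer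
    have hT₀ne : T₀ ≠ ⊥ := by
      intro hb
      apply hQ1
      rw [eq_bot_iff, ← hb]
      exact hQT₀
    have hT₀P : T₀ ≤ (P : Subgroup G) := inf_le_left
    have hT₀p : IsPGroup p T₀ := P.isPGroup'.to_le hT₀P
    by_cases hSyl : ∃ T : Subgroup G, IsPGroup p T ∧ T ≤ normalizer (Q : Set G) ∧ T₀ < T
    · -- `T₀` is not Sylow in `N(Q)`
      obtain ⟨T, hTp, hTN, hT₀T⟩ := hSyl
      have hT₀ltP : T₀ < (P : Subgroup G) := by
        refine lt_of_le_of_ne hT₀P fun heq => ?_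
        have h1 : T = (P : Subgroup G) := P.is_maximal' hTp (by rw [← heq]; exact hT₀T.le)
        exact (ne_of_lt hT₀T) (heq.trans h1.symm)
      obtain ⟨s, hsP, hsT₀, hsN⟩ := exists_mem_normalizer_of_lt P.isPGroup' hT₀ltP
      have hNT₀ : normalizer (T₀ : Set G) ≤ L := by
        refine IH T₀ hT₀P hT₀ne (card_lt_of_lt ?_)
        refine lt_of_le_of_ne (le_inf hT₀P le_normalizer) fun heq => hsT₀ ?_
        rw [heq]
        exact ⟨hsP, hsN⟩
      obtain ⟨t, htT, htT₀, htN⟩ := exists_mem_normalizer_of_lt hTp hT₀T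
      set T₁ : Subgroup G := T ⊓ normalizer (T₀ : Set G) with hT₁
      have hT₀T₁ : T₀ < T₁ := by
        refine lt_of_le_of_ne (le_inf hT₀T.le le_normalizer) fun heq => htT₀ ?_
        rw [heq]
        exact ⟨htT, htN⟩
      have hT₁L : T₁ ≤ L := inf_le_right.trans hNT₀
      obtain ⟨l, hlL, hl⟩ := exists_conj_le_of_le P hPL hT₁L (hTp.to_le inf_le_left)
      set Ql : Subgroup G := Q.map (MulAut.conj l).toMonoidHom with hQl
      have hQlP : Ql ≤ (P : Subgroup G) := by
        rintro _ ⟨x, hx, rfl⟩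
        exact hl x (hT₀T₁.le (hQT₀ hx))
      have hQlne : Ql ≠ ⊥ := by
        intro hb
        rw [hQl, Subgroup.map_eq_bot_iff_of_injective _ (MulAut.conj l).injective] at hb
        exact hQ1 hb
      have hconjN : ∀ x ∈ normalizer (Q : Set G), l * x * l⁻¹ ∈ normalizer (Ql : Set G) := by
        intro x hx
        rw [mem_normalizer_iff]
        intro z
        rw [hQl, Cfsg.Agent.Lib.Transfer.mem_map_conj, Cfsg.Agent.Lib.Transfer.mem_map_conj]
        have h1 : l⁻¹ * (l * x * l⁻¹ * z * (l * x * l⁻¹)⁻¹) * l = x * (l⁻¹ * z * l) * x⁻¹ := by group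
        rw [h1]
        exact mem_normalizer_iff.mp hx _
      have hcard : Nat.card ↥T₀ < Nat.card ↥((P : Subgroup G) ⊓ normalizer (Ql : Set G)) := by
        calc Nat.card ↥T₀ < Nat.card ↥T₁ := card_lt_of_lt hT₀T₁
          _ = Nat.card ↥(T₁.map (MulAut.conj l).toMonoidHom) :=
            (Subgroup.card_map_of_injective (MulAut.conj l).injective).symm
          _ ≤ _ := by
            apply Subgroup.card_le_of_le
            rintro _ ⟨x, hx, rfl⟩
            exact ⟨hl x hx, hconjN x (hTN hx.1)⟩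
      have hNQl := IH Ql hQlP hQlne hcard
      intro h hh
      have h1 := hNQl (hconjN h hh)
      have h2 : h = l⁻¹ * (l * h * l⁻¹) * l⁻¹⁻¹ := by group
      rw [h2]
      exact L.mul_mem (L.mul_mem (L.inv_mem hlL) h1) (L.inv_mem (L.inv_mem hlL))
    · -- `T₀` is Sylow in `N(Q)`
      push Not at hSyl
      set H : Subgroup G := normalizer (Q : Set G) with hH
      have hT₀H : T₀ ≤ H := inf_le_right
      let S₀ : Sylow p ↥H :=
        { toSubgroup := T₀.subgroupOf H
          isPGroup' := hT₀p.comap_of_injective H.subtype H.subtype_injective |>.to_le (fun x hx => hx)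
          is_maximal' := by
            intro R hR hle
            have hR' : IsPGroup p (R.map H.subtype) := hR.map _
            have h1 : T₀ ≤ R.map H.subtype := by
              intro x hx
              exact ⟨⟨x, hT₀H hx⟩, hle hx, rfl⟩
            have h2 : ¬ T₀ < R.map H.subtype := hSyl _ hR' (map_subtype_le R)
            have h3 : T₀ = R.map H.subtype := by
              by_contra hne
              exact h2 (lt_of_le_of_ne h1 hne)
            apply le_antisymm _ hle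
            intro x hx
            show (x : G) ∈ T₀
            rw [h3]
            exact ⟨x, hx, rfl⟩ }
      obtain ⟨hO, hC, hS⟩ := hloc Q (P.isPGroup'.to_le hQP) hQ1
      have hnorm := (glauberman_constrained_stable hp hC hS S₀).2 hO
      have hS₀ : ((S₀ : Subgroup ↥H)).map H.subtype = T₀ := by
        show (T₀.subgroupOf H).map H.subtype = T₀
        rw [Subgroup.subgroupOf_map_subtype, inf_eq_left.mpr hT₀H]
      have hmap := centerThompsonAOf_map H.subtype (T := (S₀ : Subgroup ↥H))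
        (fun x _ hx => Subtype.ext hx)
      rw [hS₀] at hmap
      set Q₁ : Subgroup G := centerThompsonAOf T₀ with hQ₁
      have hHQ₁ : H ≤ normalizer (Q₁ : Set G) := by
        refine le_normalizer_of_conj_mem fun x hx z hz => ?_
        rw [← hmap] at hz ⊢
        obtain ⟨w, hw, rfl⟩ := hz
        exact ⟨⟨x, hx⟩ * w * (⟨x, hx⟩ : ↥H)⁻¹, hnorm.conj_mem w hw _, rfl⟩
      by_cases hT₀eq : T₀ = (P : Subgroup G)
      · rw [hQ₁, hT₀eq] at hHQ₁
        exact hHQ₁
      · have hlt : T₀ < (P : Subgroup G) := lt_of_le_of_ne hT₀P hT₀eq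
        obtain ⟨s, hsP, hsT₀, hsN⟩ := exists_mem_normalizer_of_lt P.isPGroup' hlt
        have hQ₁P : Q₁ ≤ (P : Subgroup G) := (centerThompsonAOf_le T₀).trans hT₀P
        have hQ₁ne : Q₁ ≠ ⊥ := centerThompsonAOf_ne_bot hT₀p hT₀ne
        have hNN := normalizer_le_normalizer_centerThompsonAOf T₀
        have hNQ₁ := IH Q₁ hQ₁P hQ₁ne (card_lt_of_lt (by
          refine lt_of_le_of_ne (le_inf hT₀P ((le_normalizer).trans hNN)) fun heq => hsT₀ ?_
          rw [heq]
          exact ⟨hsP, hNN hsN⟩))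
        exact hHQ₁.trans hNQ₁

end Cfsg.Agent.Lib.PLocal
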