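import Mathlib
import Cfsg.Prelude.Def_PLocal
import Cfsg.Agent.Lib.Known.SL2
import Cfsg.Agent.Lib.KnownSimple.QdLocal
import Cfsg.Agent.Lib.OddLocal.Sup
import Cfsg.Agent.Lib.Coprime.Abelian

/-!
Sections isomorphic to `Qd(p)`: a group containing an elementary abelian subgroup of order `p²` on
which a subgroup induces `SL(2,p)` naturally has a section isomorphic to `Qd(p)`.
-/

set_option autoImplicit false
set_option linter.unusedSectionVars false
set_option linter.style.haveILetI false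

namespace Cfsg.Agent.Lib.PLocal

open Subgroup Cfsg Cfsg.Agent.Lib.Known

universe u

/-- A section mapping onto `Qd(p)`. -/
def HasQd (p : ℕ) (X : Type u) [Group X] : Prop :=
  ∃ (K : Subgroup X) (f : K →* ↥(Cfsg.qd p)), Function.Surjective f

/-- No section isomorphic to `Qd(p)`. -/
def NoQd (p : ℕ) (X : Type u) [Group X] : Prop := ¬ HasQd p X

variable {p : ℕ} [Fact p.Prime]

theorem HasQd.of_sub {X : Type u} [Group X] (S : Subgroup X) (h : HasQd p S) : HasQd p X := by
  obtain ⟨K, f, hf⟩ := h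
  refine ⟨K.map S.subtype, f.comp (K.equivMapOfInjective S.subtype S.subtype_injective).symm.toMonoidHom, ?_⟩
  exact hf.comp (MulEquiv.surjective _)

theorem HasQd.of_surj {X Y : Type u} [Group X] [Group Y] (φ : X →* Y) (hφ : Function.Surjective φ)
    (h : HasQd p Y) : HasQd p X := by
  obtain ⟨K, f, hf⟩ := h
  let g : K.comap φ →* K := (φ.comp (K.comap φ).subtype).codRestrict K (fun x => x.2)
  have hg : Function.Surjective g := by
    rintro ⟨k, hk⟩
    obtain ⟨x, rfl⟩ := hφ k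
    exact ⟨⟨x, hk⟩, rfl⟩
  exact ⟨K.comap φ, f.comp g, hf.comp hg⟩

/-- A section from the form of the statements. -/
theorem hasQd_of_section {X : Type u} [Group X] {K R : Subgroup X} (hR : (R.subgroupOf K).Normal)
    (h : Nonempty ((K ⧸ R.subgroupOf K) ≃* ↥(Cfsg.qd p))) : HasQd p X := by
  obtain ⟨e⟩ := h
  exact ⟨K, e.toMonoidHom.comp (QuotientGroup.mk' (R.subgroupOf K)),
    e.surjective.comp (QuotientGroup.mk'_surjective _)⟩

/-- A section in the form of the statements. -/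
theorem exists_section_of_hasQd {X : Type u} [Group X] (h : HasQd p X) :
    ∃ (K R : Subgroup X) (hR : (R.subgroupOf K).Normal), Nonempty ((K ⧸ R.subgroupOf K) ≃* ↥(Cfsg.qd p)) := by
  obtain ⟨K, f, hf⟩ := h
  let R : Subgroup X := f.ker.map K.subtype
  have hLe : R.subgroupOf K = f.ker := by
    rw [Subgroup.subgroupOf]
    exact Subgroup.comap_map_eq_self_of_injective K.subtype_injective _
  have hLn : (R.subgroupOf K).Normal := by
    rw [hLe]
    infer_instance
  refine ⟨K, R, hLn, ?_⟩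
  exact ⟨(QuotientGroup.quotientMulEquivOfEq hLe).trans
      (QuotientGroup.quotientKerEquivOfSurjective f hf)⟩

/-- The affine matrix attached to `A ∈ SL(2,p)` and a translation `v`. -/
def qdMat (A : SL2 (ZMod p)) (v : Fin 2 → ZMod p) : Matrix.SpecialLinearGroup (Fin 3) (ZMod p) :=
  ⟨!![A.1 0 0, A.1 0 1, v 0; A.1 1 0, A.1 1 1, v 1; 0, 0, 1], by
    have := sl2_det A
    rw [Matrix.det_fin_three]
    simp only [Matrix.of_apply, Matrix.cons_val', Matrix.cons_val_zero, Matrix.cons_val_one,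
      Matrix.cons_val_two, Matrix.cons_val]
    simp
    linear_combination this⟩

theorem qdMat_mem (A : SL2 (ZMod p)) (v : Fin 2 → ZMod p) : qdMat A v ∈ Cfsg.qd p :=
  Subgroup.subset_closure ⟨by simp [qdMat], by simp [qdMat], by simp [qdMat]⟩

theorem qdMat_mul (A B : SL2 (ZMod p)) (v w : Fin 2 → ZMod p) :
    qdMat A v * qdMat B w = qdMat (A * B) (v + A.1.mulVec w) := by
  apply Subtype.ext
  change (qdMat A v).1 * (qdMat B w).1 = (qdMat (A * B) (v + A.1.mulVec w)).1
  ext i j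
  fin_cases i <;> fin_cases j <;>
    simp [qdMat, Matrix.mul_apply, Fin.sum_univ_three, sl2_mul_apply, Matrix.mulVec, dotProduct,
      Fin.sum_univ_two] <;> ring

theorem exists_qdMat {M : Matrix.SpecialLinearGroup (Fin 3) (ZMod p)} (hM : M ∈ Cfsg.qd p) :
    ∃ A v, M = qdMat A v := by
  obtain ⟨h0, h1, h2⟩ := Cfsg.Agent.Lib.KnownSimple.qd_lastRow M hM
  have hdet : M.1 0 0 * M.1 1 1 - M.1 0 1 * M.1 1 0 = 1 := by
    have := M.2
    rw [Matrix.det_fin_three, h0, h1, h2] at this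
    linear_combination this
  refine ⟨sl2Mk (M.1 0 0) (M.1 0 1) (M.1 1 0) (M.1 1 1) hdet, ![M.1 0 2, M.1 1 2], ?_⟩
  apply Subtype.ext
  ext i j
  fin_cases i <;> fin_cases j <;> simp [qdMat, sl2Mk, h0, h1, h2]

/-- `SL₂` moves a nonzero vector to any nonzero vector. -/
theorem sl2_transitive {F : Type*} [Field F] {c d : Fin 2 → F} (hc : c ≠ 0) (hd : d ≠ 0) :
    ∃ g : SL2 F, g.1.mulVec c = d := by
  have key : ∀ c : Fin 2 → F, c ≠ 0 → ∃ g : SL2 F, g.1.mulVec ![1, 0] = c := by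
    intro c hc
    by_cases h0 : c 0 = 0
    · have h1 : c 1 ≠ 0 := by
        intro h1
        apply hc
        funext i
        fin_cases i
        · exact h0
        · exact h1
      refine ⟨sl2Mk 0 (-(c 1)⁻¹) (c 1) 0 (by field_simp; ring), ?_⟩
      funext i
      fin_cases i <;> simp [Matrix.mulVec, dotProduct, Fin.sum_univ_two, sl2Mk, h0]
    · refine ⟨sl2Mk (c 0) 0 (c 1) (c 0)⁻¹ (by field_simp; ring), ?_⟩
      funext i
      fin_cases i <;> simp [Matrix.mulVec, dotProduct, Fin.sum_univ_two, sl2Mk]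
  obtain ⟨g, hg⟩ := key c hc
  obtain ⟨h, hh⟩ := key d hd
  refine ⟨h * g⁻¹, ?_⟩
  have h1 : (h * g⁻¹).1 * g.1 = h.1 := by
    have : (h * g⁻¹ * g) = h := by group
    exact congrArg Subtype.val this
  rw [← hg, Matrix.mulVec_mulVec, h1, hh]

section config

variable {X : Type u} [Group X] [Finite X]

/-- The key lemma. -/
theorem hasQd_of_config (hp : p ≠ 2)
    (τ : (Fin 2 → ZMod p) → X) (hτadd : ∀ c d, τ (c + d) = τ c * τ d) (hτinj : Function.Injective τ)
    (K : Subgroup X) (f : K →* SL2 (ZMod p)) (hf : Function.Surjective f)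
    (hact : ∀ (k : K) (c : Fin 2 → ZMod p), (k : X) * τ c * (k : X)⁻¹ = τ ((f k).1.mulVec c)) :
    HasQd p X := by
  classical
  have hpp : p.Prime := Fact.out
  have hτ0 : τ 0 = 1 := by
    have := hτadd 0 0
    rw [add_zero] at this
    exact mul_eq_left.mp this.symm
  have hτneg : ∀ c, τ (-c) = (τ c)⁻¹ := by
    intro c
    rw [eq_inv_iff_mul_eq_one, ← hτadd, neg_add_cancel, hτ0]
  have hτpow : ∀ (n : ℕ) (c : Fin 2 → ZMod p), τ c ^ n = τ ((n : ZMod p) • c) := by
    intro n c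
    induction n with
    | zero => simp [hτ0]
    | succ n ih =>
      rw [pow_succ, ih, ← hτadd]
      congr 1
      push_cast
      rw [add_smul, one_smul]
  have hτp : ∀ c, τ c ^ p = 1 := by
    intro c
    rw [hτpow]
    simp [hτ0]
  -- a minimal supplement
  obtain ⟨M, hM⟩ := Set.Finite.exists_minimal (s := {M : Subgroup K | M.map f = ⊤}) (Set.toFinite _)
    ⟨⊤, by
      show (⊤ : Subgroup K).map f = ⊤
      rw [← MonoidHom.range_eq_map]
      exact MonoidHom.range_eq_top.mpr hf⟩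
  have hMtop : M.map f = ⊤ := hM.1
  have hMmin : ∀ M' : Subgroup K, M'.map f = ⊤ → M' ≤ M → M ≤ M' := fun M' h1 h2 => hM.2 h1 h2
  let φ : M →* SL2 (ZMod p) := f.comp M.subtype
  have hφ : Function.Surjective φ := by
    intro g
    have : g ∈ M.map f := by rw [hMtop]; trivial
    obtain ⟨m, hm, rfl⟩ := this
    exact ⟨⟨m, hm⟩, rfl⟩
  have hactM : ∀ (m : M) (c : Fin 2 → ZMod p), ((m : K) : X) * τ c * ((m : K) : X)⁻¹ = τ ((φ m).1.mulVec c) :=
    fun m c => hact m c
  -- the intersection is trivial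
  have htriv : ∀ c, (∃ m : M, ((m : K) : X) = τ c) → c = 0 := by
    intro c₀ ⟨m₀, hm₀⟩
    by_contra hc₀
    -- every translation lies in `M`
    have hall : ∀ d : Fin 2 → ZMod p, ∃ m : M, ((m : K) : X) = τ d := by
      intro d
      by_cases hd : d = 0
      · refine ⟨1, ?_⟩
        rw [hd, hτ0]
        rfl
      obtain ⟨g, hg⟩ := sl2_transitive hc₀ hd
      obtain ⟨m, rfl⟩ := hφ g
      refine ⟨m * m₀ * m⁻¹, ?_⟩
      have := hactM m c₀
      rw [hg] at this
      rw [← this, ← hm₀]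
      rfl
    -- the Frattini argument
    let Z : Subgroup (SL2 (ZMod p)) := zpowers (-1 : SL2 (ZMod p))
    haveI hZn : Z.Normal := by
      constructor
      intro n hn g
      obtain ⟨k, rfl⟩ := Subgroup.mem_zpowers_iff.mp hn
      have : g * (-1 : SL2 (ZMod p)) * g⁻¹ = -1 := by simp
      rw [← conj_zpow, this]
      exact Subgroup.zpow_mem _ (Subgroup.mem_zpowers _) k
    have hZ2 : ∀ z ∈ Z, z = 1 ∨ z = -1 := by
      intro z hz
      obtain ⟨k, rfl⟩ := Subgroup.mem_zpowers_iff.mp hz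
      have hsq : (-1 : SL2 (ZMod p)) ^ (2 : ℤ) = 1 := by
        rw [zpow_two]
        simp
      rcases Int.even_or_odd' k with ⟨m, rfl | rfl⟩
      · left
        rw [zpow_mul, hsq, one_zpow]
      · right
        rw [zpow_add_one, zpow_mul, hsq, one_zpow, one_mul]
    have hZp : IsPGroup 2 Z := by
      rintro ⟨z, hz⟩
      refine ⟨1, Subtype.ext ?_⟩
      rcases hZ2 z hz with rfl | rfl <;> simp
    let D : Subgroup M := Z.comap φ
    haveI hDn : D.Normal := inferInstance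
    haveI : Fact (Nat.Prime 2) := ⟨Nat.prime_two⟩
    obtain ⟨T⟩ : Nonempty (Sylow 2 D) := inferInstance
    let T' : Subgroup M := (T : Subgroup D).map D.subtype
    have hT'p : IsPGroup 2 T' := (T.isPGroup').map _
    have hF := Sylow.normalizer_sup_eq_top (N := D) T
    -- an element of `T'` above `-1`
    have hsurj0 : Function.Surjective (φ.subgroupComap Z) :=
      MonoidHom.subgroupComap_surjective_of_surjective φ Z hφ
    have hTop : ((T.mapSurjective hsurj0 : Sylow 2 Z) : Subgroup Z) = ⊤ :=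
      ((T.mapSurjective hsurj0).is_maximal' (Q := ⊤) (hZp.to_subgroup ⊤) le_top).symm
    rw [Sylow.coe_mapSurjective] at hTop
    obtain ⟨t, htT', htφ⟩ : ∃ t ∈ T', φ t = -1 := by
      have h1 : (⟨-1, Subgroup.mem_zpowers _⟩ : Z) ∈ (T : Subgroup D).map (φ.subgroupComap Z) := by
        rw [hTop]
        trivial
      obtain ⟨t, ht, hte⟩ := h1
      exact ⟨t, ⟨t, ht, rfl⟩, congrArg Subtype.val hte⟩
    -- the normalizer covers
    let Nn : Subgroup M := normalizer (T' : Set M)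
    have hNnmap : (Nn.map M.subtype).map f = ⊤ := by
      rw [eq_top_iff]
      intro g _
      obtain ⟨m, rfl⟩ := hφ g
      have hm : m ∈ ((normalizer (T' : Set M) ⊔ D : Subgroup M) : Set M) := by
        have : normalizer (T' : Set M) ⊔ D = ⊤ := hF
        rw [this]
        trivial
      rw [Subgroup.mul_normal, Set.mem_mul] at hm
      obtain ⟨n, hn, d, hd, rfl⟩ := hm
      have hd' : φ d ∈ Z := hd
      rcases hZ2 _ hd' with h1 | h1
      · refine ⟨((n : M) : K), ⟨n, hn, rfl⟩, ?_⟩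
        rw [map_mul, h1, mul_one]
        rfl
      · refine ⟨((n * t : M) : K), ⟨n * t, Nn.mul_mem hn (Subgroup.le_normalizer htT'), rfl⟩, ?_⟩
        rw [map_mul, h1]
        show φ (n * t) = _
        rw [map_mul, htφ]
    have hNtop : M ≤ Nn.map M.subtype := hMmin _ hNnmap (Subgroup.map_subtype_le _)
    have hT'n : ∀ m : M, m ∈ Nn := by
      intro m
      obtain ⟨m', hm', hmm⟩ := hNtop m.2
      have : m' = m := Subtype.ext hmm
      rwa [← this]
    -- the contradiction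
    obtain ⟨m₁, hm₁⟩ := hall ![1, 0]
    have hne : (![1, 0] : Fin 2 → ZMod p) ≠ 0 := by
      intro h
      have := congrFun h 0
      simp at this
    have h1 : ((t : K) : X) * τ ![1, 0] * ((t : K) : X)⁻¹ = (τ ![1, 0])⁻¹ := by
      rw [hactM t, htφ, ← hτneg]
      congr 1
      simp [Matrix.SpecialLinearGroup.coe_neg, Matrix.neg_mulVec]
    have h2 : m₁ * t⁻¹ * m₁⁻¹ ∈ T' := by
      have := (mem_normalizer_iff.mp (hT'n m₁) t⁻¹).mp (T'.inv_mem htT')
      exact this
    have h3 : t * (m₁ * t⁻¹ * m₁⁻¹) ∈ T' := T'.mul_mem htT' h2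
    have h4 : (((t * (m₁ * t⁻¹ * m₁⁻¹) : M) : K) : X) = (τ ![1, 0])⁻¹ * (τ ![1, 0])⁻¹ := by
      have e : (((t * (m₁ * t⁻¹ * m₁⁻¹) : M) : K) : X) =
          (((t : K) : X) * ((m₁ : K) : X) * ((t : K) : X)⁻¹) * ((m₁ : K) : X)⁻¹ := by
        simp only [Subgroup.coe_mul, InvMemClass.coe_inv]
        group
      rw [e, hm₁, h1]
    obtain ⟨k, hk⟩ := hT'p ⟨_, h3⟩
    have h5 : ((t * (m₁ * t⁻¹ * m₁⁻¹) : M)) ^ 2 ^ k = 1 := congrArg Subtype.val hk
    have h6 : (((t * (m₁ * t⁻¹ * m₁⁻¹) : M) : K) : X) ^ 2 ^ k = 1 := by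
      have := congrArg (fun a : M => ((a : K) : X)) h5
      simpa using this
    rw [h4] at h6
    -- `τ` has odd order
    have h7 : τ ![1, 0] ^ (2 ^ (k + 1)) = 1 := by
      have h8 : ((τ ![1, 0])⁻¹ * (τ ![1, 0])⁻¹) = (τ ![1, 0] ^ 2)⁻¹ := by
        rw [pow_two, mul_inv_rev]
      rw [h8, inv_pow, inv_eq_one, ← pow_mul] at h6
      rw [pow_succ', show 2 * 2 ^ k = 2 ^ k * 2 by ring, mul_comm (2 ^ k) 2]
      exact h6
    have h8 := hτp ![1, 0]
    have hcop : Nat.Coprime (2 ^ (k + 1)) p :=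
      Nat.Coprime.pow_left _ ((Nat.coprime_primes Nat.prime_two hpp).mpr (Ne.symm hp))
    have h9 : τ ![1, 0] = 1 := by
      have h10 := orderOf_dvd_of_pow_eq_one h7
      have h11 := orderOf_dvd_of_pow_eq_one h8
      have h12 := Nat.eq_one_of_dvd_coprimes hcop h10 h11
      exact orderOf_eq_one_iff.mp h12
    apply hne
    apply hτinj
    rw [h9, hτ0]
  -- the semidirect product
  let U : Subgroup X :=
    { carrier := Set.range τ
      mul_mem' := by
        rintro _ _ ⟨c, rfl⟩ ⟨d, rfl⟩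
        exact ⟨c + d, hτadd c d⟩
      one_mem' := ⟨0, hτ0⟩
      inv_mem' := by
        rintro _ ⟨c, rfl⟩
        exact ⟨-c, hτneg c⟩ }
  have hUmem : ∀ c, τ c ∈ U := fun c => ⟨c, rfl⟩
  let K₀ : Subgroup X := (M.map K.subtype)
  have hK₀N : K₀ ≤ normalizer (U : Set X) := by
    rintro _ ⟨m, hm, rfl⟩
    apply Cfsg.Agent.Lib.Coprime.mem_normalizer_of_conj_le
    rintro _ ⟨c, rfl⟩
    have := hactM ⟨m, hm⟩ c
    exact ⟨_, this.symm⟩
  let Y : Subgroup X := U ⊔ K₀
  have hdec : ∀ y : Y, ∃ (c : Fin 2 → ZMod p) (m : M), (y : X) = τ c * ((m : K) : X) := by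
    intro y
    obtain ⟨_, ⟨c, rfl⟩, _, ⟨m, hm, rfl⟩, he⟩ :=
      Cfsg.Agent.Lib.OddLocal.mem_sup_of_le_normalizer hK₀N y.2
    exact ⟨c, ⟨m, hm⟩, he.symm⟩
  have huniq : ∀ (c c' : Fin 2 → ZMod p) (m m' : M), τ c * ((m : K) : X) = τ c' * ((m' : K) : X) →
      c = c' ∧ m = m' := by
    intro c c' m m' he
    have h1 : (((m' * m⁻¹ : M) : K) : X) = τ (c' * 0 + (-c') + c) := by
      simp only [mul_zero, zero_add, hτadd, hτneg]
      simp only [Subgroup.coe_mul, InvMemClass.coe_inv]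
      rw [eq_inv_mul_iff_mul_eq.mpr he.symm |> fun h => h]
      group
    have h2 := htriv _ ⟨_, h1⟩
    simp only [mul_zero, zero_add] at h2
    have h3 : c = c' := by
      have : c = c' + (-c' + c) := by abel
      rw [this, h2, add_zero]
    subst h3
    refine ⟨rfl, ?_⟩
    have h4 := mul_left_cancel he
    exact Subtype.ext (Subtype.ext h4)
  choose pc pm hpm using hdec
  let F : Y → Cfsg.qd p := fun y => ⟨qdMat (φ (pm y)) (pc y), qdMat_mem _ _⟩
  have hF : ∀ (y : Y) (c : Fin 2 → ZMod p) (m : M), (y : X) = τ c * ((m : K) : X) → F y = ⟨qdMat (φ m) c, qdMat_mem _ _⟩ := by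
    intro y c m he
    obtain ⟨h1, h2⟩ := huniq _ _ _ _ ((hpm y).symm.trans he)
    apply Subtype.ext
    show qdMat (φ (pm y)) (pc y) = _
    rw [h1, h2]
  let FF : Y →* Cfsg.qd p := MonoidHom.mk' F (by
    intro y y'
    have e : ((y * y' : Y) : X) = τ (pc y + (φ (pm y)).1.mulVec (pc y')) * (((pm y * pm y' : M) : K) : X) := by
      rw [hτadd, ← hactM]
      simp only [Subgroup.coe_mul]
      rw [hpm y, hpm y']
      group
    rw [hF _ _ _ e]
    apply Subtype.ext
    show _ = qdMat (φ (pm y)) (pc y) * qdMat (φ (pm y')) (pc y')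
    rw [qdMat_mul, map_mul])
  refine ⟨Y, FF, ?_⟩
  rintro ⟨M', hM'⟩
  obtain ⟨A, v, rfl⟩ := exists_qdMat hM'
  obtain ⟨m, rfl⟩ := hφ A
  have hmem : τ v * ((m : K) : X) ∈ Y :=
    Y.mul_mem ((le_sup_left : U ≤ Y) (hUmem v)) ((le_sup_right : K₀ ≤ Y) ⟨_, m.2, rfl⟩)
  exact ⟨⟨_, hmem⟩, hF ⟨_, hmem⟩ v m rfl⟩

end config

end Cfsg.Agent.Lib.PLocal
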