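import Cfsg.Agent.Lib.OddLocal.QuadPair
import Cfsg.Agent.Lib.OddLocal.PStable

/-!
The chain of results on two quadratically acting elements, parametrised by a class of finite groups
closed under subgroups and surjective images, with a two-dimensional base case.
-/

set_option autoImplicit false
set_option linter.unusedSectionVars false
set_option linter.style.haveILetI false

namespace Cfsg.Agent.Lib.PLocal

open Subgroup Cfsg.Agent.Lib.OddLocal

open scoped commutatorElement

universe u

/-- A class of finite groups closed under subgroups and surjective images, such that no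
two `p`-elements of `GL(2,F)` acting irreducibly generate a member. -/
structure QuadClass (p : ℕ) (Pr : (X : Type u) → [Group X] → Prop) : Prop where
  sub : ∀ {X : Type u} [Group X] [Finite X] (S : Subgroup X), Pr X → Pr S
  surj : ∀ {X Y : Type u} [Group X] [Group Y] [Finite X] [Finite Y] (f : X →* Y),
    Function.Surjective f → Pr X → Pr Y
  base : ∀ (F : Type u) [Field F] [Finite F] [CharP F p] (a b : GL (Fin 2) F),
    a ^ p = 1 → b ^ p = 1 → a ≠ 1 →
    (∀ v : Fin 2 → F, v ≠ 0 → ∃ g ∈ Subgroup.closure ({a, b} : Set (GL (Fin 2) F)),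
      (g : Matrix (Fin 2) (Fin 2) F).mulVec v ∉ Submodule.span F {v}) →
    Pr (Subgroup.closure ({a, b} : Set (GL (Fin 2) F))) → False

/-- The two-dimensional case. -/
theorem quad_two_dim_gen {p : ℕ} [Fact p.Prime] {Pr : (X : Type u) → [Group X] → Prop}
    (hcl : QuadClass p Pr) {V : Type u} [AddCommGroup V] [Finite V]
    {L : Type u} [Group L] [Finite L] (hodd : Pr L) (ρ : L →* AddMonoid.End V)
    {F₁ : Type u} [Field F₁] [Finite F₁] [CharP F₁ p] (ι : F₁ →+* AddMonoid.End V)
    (hcomm : ∀ (c : F₁) (t : L), ι c * ρ t = ρ t * ι c)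
    (v₀ w : V) (hbij : Function.Bijective (fun u : Fin 2 → F₁ => ι (u 0) v₀ + ι (u 1) w))
    (x y : L) (hgen : closure ({x, y} : Set L) = ⊤) (hxp : ρ x ^ p = 1) (hyp : ρ y ^ p = 1) (hx1 : ρ x ≠ 1)
    (hirr : ∀ S : AddSubgroup V, (∀ v ∈ S, ρ x v ∈ S) → (∀ v ∈ S, ρ y v ∈ S) → S = ⊥ ∨ S = ⊤) : False := by
  classical
  have hpp : p.Prime := Fact.out
  set φe := Equiv.ofBijective _ hbij with hφe
  have hφ : ∀ u, φe u = ι (u 0) v₀ + ι (u 1) w := fun _ => rfl
  have hι : ∀ (a b : F₁) (v : V), ι a (ι b v) = ι (a * b) v := by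
    intro a b v
    rw [map_mul]
    rfl
  have hιc : ∀ (c : F₁) (t : L) (v : V), ρ t (ι c v) = ι c (ρ t v) := by
    intro c t v
    have := congrArg (fun f : AddMonoid.End V => f v) (hcomm c t)
    exact this.symm
  have hιadd : ∀ (a b : F₁) (v : V), ι (a + b) v = ι a v + ι b v := by
    intro a b v
    rw [map_add]
    rfl
  -- the matrix
  let mat : L → Matrix (Fin 2) (Fin 2) F₁ := fun t => Matrix.of fun i j =>
    φe.symm (ρ t (if j = 0 then v₀ else w)) i
  have hcol0 : ∀ t, ι (mat t 0 0) v₀ + ι (mat t 1 0) w = ρ t v₀ := by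
    intro t
    have h1 := φe.apply_symm_apply (ρ t v₀)
    rw [hφ] at h1
    simpa [mat] using h1
  have hcol1 : ∀ t, ι (mat t 0 1) v₀ + ι (mat t 1 1) w = ρ t w := by
    intro t
    have h1 := φe.apply_symm_apply (ρ t w)
    rw [hφ] at h1
    simpa [mat] using h1
  have hkey : ∀ t u, φe ((mat t).mulVec u) = ρ t (φe u) := by
    intro t u
    have e0 : (mat t).mulVec u 0 = mat t 0 0 * u 0 + mat t 0 1 * u 1 := by
      simp [Matrix.mulVec, dotProduct, Fin.sum_univ_two]
    have e1 : (mat t).mulVec u 1 = mat t 1 0 * u 0 + mat t 1 1 * u 1 := by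
      simp [Matrix.mulVec, dotProduct, Fin.sum_univ_two]
    have h1 : ρ t (φe u) = ι (u 0) (ρ t v₀) + ι (u 1) (ρ t w) := by
      rw [hφ, map_add, hιc, hιc]
    rw [h1, ← hcol0, ← hcol1, hφ, e0, e1, hιadd, hιadd, map_add (ι (u 0)), map_add (ι (u 1)), hι, hι, hι, hι]
    rw [mul_comm (u 0), mul_comm (u 0), mul_comm (u 1), mul_comm (u 1)]
    abel
  have hmat1 : mat 1 = 1 := by
    apply Matrix.mulVec_injective
    funext u
    apply φe.injective
    rw [hkey, map_one, Matrix.one_mulVec]
    rfl
  have hmatmul : ∀ s t, mat (s * t) = mat s * mat t := by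
    intro s t
    apply Matrix.mulVec_injective
    funext u
    apply φe.injective
    rw [hkey, map_mul, ← Matrix.mulVec_mulVec, hkey, hkey]
    rfl
  let ρ' : L →* Matrix (Fin 2) (Fin 2) F₁ :=
    { toFun := mat
      map_one' := hmat1
      map_mul' := hmatmul }
  let ρ'' : L →* GL (Fin 2) F₁ := ρ'.toHomUnits
  have hρ'' : ∀ t, ((ρ'' t : GL (Fin 2) F₁) : Matrix (Fin 2) (Fin 2) F₁) = mat t := fun t => rfl
  set H := ρ''.range with hH
  haveI : Finite H := Finite.of_surjective ρ''.rangeRestrict ρ''.rangeRestrict_surjective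
  have hirr' : ∀ u : Fin 2 → F₁, u ≠ 0 →
      ∃ g ∈ H, (g : Matrix (Fin 2) (Fin 2) F₁).mulVec u ∉ Submodule.span F₁ {u} := by
    intro u hu
    by_contra hcon
    push Not at hcon
    have hspan : ∀ t, ∃ c : F₁, (mat t).mulVec u = c • u := by
      intro t
      have h1 := hcon (ρ'' t) ⟨t, rfl⟩
      rw [hρ'', Submodule.mem_span_singleton] at h1
      obtain ⟨c, hc⟩ := h1
      exact ⟨c, hc.symm⟩
    set u' := φe u with hu'
    have hu'0 : u' ≠ 0 := by
      intro e
      apply hu
      have h0 : φe 0 = 0 := by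
        rw [hφ]
        simp
      exact φe.injective (e.trans h0.symm)
    have hinv : ∀ t, ∃ c : F₁, ρ t u' = ι c u' := by
      intro t
      obtain ⟨c, hc⟩ := hspan t
      refine ⟨c, ?_⟩
      rw [hu', ← hkey, hc, hφ, hφ, map_add, hι, hι]
      simp only [Pi.smul_apply, smul_eq_mul]
    let S : AddSubgroup V :=
      { carrier := {v | ∃ c : F₁, v = ι c u'}
        zero_mem' := ⟨0, by simp⟩
        add_mem' := by
          rintro a b ⟨c, rfl⟩ ⟨d, rfl⟩
          exact ⟨c + d, by rw [hιadd]⟩
        neg_mem' := by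
          rintro a ⟨c, rfl⟩
          refine ⟨-c, ?_⟩
          rw [map_neg]
          rfl }
    have hSmem : ∀ v, v ∈ S ↔ ∃ c : F₁, v = ι c u' := fun v => Iff.rfl
    have hSinv : ∀ t, ∀ v ∈ S, ρ t v ∈ S := by
      rintro t v ⟨c, rfl⟩
      obtain ⟨d, hd⟩ := hinv t
      refine ⟨c * d, ?_⟩
      rw [hιc, hd, hι]
    have hu'S : u' ∈ S := ⟨1, by simp⟩
    have hStop : S = ⊤ := by
      rcases hirr S (hSinv x) (hSinv y) with h | h
      · exfalso
        rw [h] at hu'S
        exact hu'0 hu'S
      · exact h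
    have hv₀ : v₀ ∈ S := hStop ▸ AddSubgroup.mem_top v₀
    have hw : w ∈ S := hStop ▸ AddSubgroup.mem_top w
    obtain ⟨r, hr⟩ := hv₀
    obtain ⟨s, hs⟩ := hw
    have h0 : φe ![s, -r] = 0 := by
      rw [hφ]
      simp only [Matrix.cons_val_zero, Matrix.cons_val_one, map_neg]
      change ι s v₀ + -(ι r w) = 0
      conv_lhs => rw [hr, hs]
      rw [hι, hι, mul_comm]
      abel
    have h00 : φe 0 = 0 := by
      rw [hφ]
      simp
    have h1 : ![s, -r] = (0 : Fin 2 → F₁) := φe.injective (h0.trans h00.symm)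
    have hr0 : r = 0 := by
      have := congrFun h1 1
      simpa using this
    have hv00 : v₀ = 0 := by
      rw [hr, hr0]
      simp
    have hs0 : s = 0 := by
      have := congrFun h1 0
      simpa using this
    have hw0 : w = 0 := by
      rw [hs, hs0]
      simp
    -- φe is not injective
    have h2 : φe ![1, 0] = 0 := by
      rw [hφ, hv00, hw0]
      simp
    have h3 : ![(1 : F₁), 0] = 0 := φe.injective (h2.trans h00.symm)
    have := congrFun h3 0
    simp at this
  have hHe : H = closure ({ρ'' x, ρ'' y} : Set (GL (Fin 2) F₁)) := by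
    rw [hH, MonoidHom.range_eq_map, ← hgen, MonoidHom.map_closure, Set.image_pair]
  have hPrH : Pr H := hcl.surj ρ''.rangeRestrict ρ''.rangeRestrict_surjective hodd
  rw [hHe] at hPrH
  rw [hHe] at hirr'
  have hpowE : ∀ t : L, ρ t ^ p = 1 → ρ'' t ^ p = 1 := by
    intro t ht
    rw [← map_pow]
    apply Units.ext
    rw [hρ'']
    change mat (t ^ p) = 1
    apply Matrix.mulVec_injective
    funext u
    apply φe.injective
    rw [hkey, map_pow, ht, Matrix.one_mulVec]
    rfl
  have hmat1' : ρ'' x ≠ 1 := by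
    intro e
    apply hx1
    have h1 : mat x = 1 := by
      rw [← hρ'', e]
      rfl
    ext v
    have h2 := hkey x (φe.symm v)
    rw [h1, Matrix.one_mulVec, Equiv.apply_symm_apply] at h2
    exact h2.symm
  exact hcl.base F₁ (ρ'' x) (ρ'' y) (hpowE x hxp) (hpowE y hyp) hmat1' hirr' hPrH

/-- **Quadratic irreducibility.** -/
theorem quad_irreducible_gen {p : ℕ} [Fact p.Prime] {Pr : (X : Type u) → [Group X] → Prop}
    (hcl : QuadClass p Pr) {V : Type u} [AddCommGroup V] [Finite V]
    (hV : ∀ v : V, p • v = 0) {L : Type u} [Group L] [Finite L] (hodd : Pr L) (ρ : L →* AddMonoid.End V)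
    (x y : L) (hgen : closure ({x, y} : Set L) = ⊤)
    (hx : (ρ x - 1) * (ρ x - 1) = 0) (hy : (ρ y - 1) * (ρ y - 1) = 0)
    (hirr : ∀ S : AddSubgroup V, (∀ v ∈ S, ρ x v ∈ S) → (∀ v ∈ S, ρ y v ∈ S) → S = ⊥ ∨ S = ⊤) :
    ρ x = 1 ∧ ρ y = 1 := by
  classical
  have hpp : p.Prime := Fact.out
  set x₁ : AddMonoid.End V := ρ x - 1 with hx₁
  set y₁ : AddMonoid.End V := ρ y - 1 with hy₁
  set z : AddMonoid.End V := x₁ * y₁ + y₁ * x₁ with hz
  have hxx' : x₁ * (x₁ * y₁) = 0 := by rw [← mul_assoc, hx, zero_mul]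
  have hyy' : y₁ * (y₁ * x₁) = 0 := by rw [← mul_assoc, hy, zero_mul]
  have hzx : z * x₁ = x₁ * z := by
    simp only [hz, add_mul, mul_add, mul_assoc, hx, hxx', mul_zero, zero_add, add_zero]
  have hzy : z * y₁ = y₁ * z := by
    simp only [hz, add_mul, mul_add, mul_assoc, hy, hyy', mul_zero, zero_add, add_zero]
  have hxe : ρ x = x₁ + 1 := by rw [hx₁]; abel
  have hye : ρ y = y₁ + 1 := by rw [hy₁]; abel
  -- general irreducibility
  have hirr' : ∀ S : AddSubgroup V, (∀ v ∈ S, x₁ v ∈ S) → (∀ v ∈ S, y₁ v ∈ S) → S = ⊥ ∨ S = ⊤ := by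
    intro S h1 h2
    apply hirr S
    · intro v hv
      rw [hxe]
      exact S.add_mem (h1 v hv) hv
    · intro v hv
      rw [hye]
      exact S.add_mem (h2 v hv) hv
  have hker : ∀ r : AddMonoid.End V, r * x₁ = x₁ * r → r * y₁ = y₁ * r → r = 0 ∨ ∀ v, r v = 0 → v = 0 := by
    intro r h1 h2
    rcases hirr' (endKer r) (by
      intro v hv
      rw [mem_endKer] at hv ⊢
      have := congrArg (fun f : AddMonoid.End V => f v) h1
      change r (x₁ v) = x₁ (r v) at this
      rw [this, hv, map_zero]) (by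
      intro v hv
      rw [mem_endKer] at hv ⊢
      have := congrArg (fun f : AddMonoid.End V => f v) h2
      change r (y₁ v) = y₁ (r v) at this
      rw [this, hv, map_zero]) with h | h
    · right
      intro v hv
      have : v ∈ endKer r := hv
      rw [h] at this
      exact this
    · left
      ext v
      have : v ∈ endKer r := h ▸ AddSubgroup.mem_top v
      exact this
  have hker2 : ∀ a b : AddMonoid.End V, a * a = 0 → a * b = -(b * a) →
      (∀ S : AddSubgroup V, (∀ v ∈ S, a v ∈ S) → (∀ v ∈ S, b v ∈ S) → S = ⊥ ∨ S = ⊤) → a = 0 := by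
    intro a b haa hab hI
    have hk : endKer a = ⊥ ∨ endKer a = ⊤ := hI (endKer a) (by
      intro v hv
      rw [mem_endKer] at hv ⊢
      rw [hv, map_zero]) (by
      intro v hv
      rw [mem_endKer] at hv ⊢
      have := congrArg (fun f : AddMonoid.End V => f v) hab
      change a (b v) = -(b (a v)) at this
      rw [this, hv, map_zero, neg_zero])
    ext v
    have h1 : a (a v) = 0 := congrArg (fun f : AddMonoid.End V => f v) haa
    rcases hk with h | h
    · have : a v ∈ endKer a := h1
      rw [h] at this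
      exact this
    · have : v ∈ endKer a := h ▸ AddSubgroup.mem_top v
      exact this
  by_cases hz0 : z = 0
  · -- the easy case
    have hxy : x₁ * y₁ = -(y₁ * x₁) := by
      have := hz0
      rw [hz] at this
      exact eq_neg_of_add_eq_zero_left this
    have hyx : y₁ * x₁ = -(x₁ * y₁) := by
      rw [hxy, neg_neg]
    have hx0 := hker2 x₁ y₁ hx hxy hirr'
    have hy0 := hker2 y₁ x₁ hy hyx (fun S h1 h2 => hirr' S h2 h1)
    refine ⟨?_, ?_⟩
    · rw [hxe, hx0, zero_add]
    · rw [hye, hy0, zero_add]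
  · exfalso
    have hx₁0 : x₁ ≠ 0 := by
      intro e
      apply hz0
      rw [hz, e, zero_mul, mul_zero, add_zero]
    -- the field
    let R : Subring (AddMonoid.End V) := Subring.closure {z}
    have hRc : ∀ r ∈ R, r * x₁ = x₁ * r ∧ r * y₁ = y₁ * r := by
      intro r hr
      induction hr using Subring.closure_induction with
      | mem a ha =>
        rw [Set.mem_singleton_iff] at ha
        rw [ha]
        exact ⟨hzx, hzy⟩
      | zero => simp
      | one => simp
      | add a b _ _ h1 h2 =>
        exact ⟨by rw [add_mul, mul_add, h1.1, h2.1], by rw [add_mul, mul_add, h1.2, h2.2]⟩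
      | neg a _ h1 =>
        exact ⟨by rw [neg_mul, mul_neg, h1.1], by rw [neg_mul, mul_neg, h1.2]⟩
      | mul a b _ _ h1 h2 =>
        exact ⟨by rw [mul_assoc, h2.1, ← mul_assoc, h1.1, mul_assoc],
          by rw [mul_assoc, h2.2, ← mul_assoc, h1.2, mul_assoc]⟩
    have hzR : z ∈ R := Subring.subset_closure rfl
    letI hcr : CommRing R := Subring.closureCommRingOfComm (by
      intro a ha b hb
      rw [Set.mem_singleton_iff] at ha hb
      rw [ha, hb])
    have hinj : ∀ r : R, (r : AddMonoid.End V) ≠ 0 → ∀ v, (r : AddMonoid.End V) v = 0 → v = 0 := by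
      intro r hr
      rcases hker r (hRc r r.2).1 (hRc r r.2).2 with h | h
      · exact absurd h hr
      · exact h
    obtain ⟨v', hv'⟩ : ∃ v, x₁ v ≠ 0 := by
      by_contra h
      push Not at h
      exact hx₁0 (by ext v; exact h v)
    set v₀ := x₁ v' with hv₀
    have hx₁v₀ : x₁ v₀ = 0 := congrArg (fun f : AddMonoid.End V => f v') hx
    set w := y₁ v₀ with hw
    haveI hntR : Nontrivial R := by
      refine ⟨⟨0, 1, ?_⟩⟩
      intro e
      have h1 := congrArg Subtype.val e
      have h2 : (0 : AddMonoid.End V) = 1 := h1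
      apply hv'
      have h3 := congrArg (fun f : AddMonoid.End V => f (x₁ v')) h2
      exact h3.symm
    haveI hdomR : IsDomain R := by
      haveI : NoZeroDivisors R := by
        refine ⟨fun {a b} hab => ?_⟩
        by_contra hne
        push Not at hne
        obtain ⟨ha, hb⟩ := hne
        have ha' : (a : AddMonoid.End V) ≠ 0 := fun e => ha (Subtype.ext e)
        have hb' : (b : AddMonoid.End V) ≠ 0 := fun e => hb (Subtype.ext e)
        apply hb'
        ext v
        apply hinj a ha'
        have h1 : ((a * b : R) : AddMonoid.End V) = 0 := by rw [hab]; rfl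
        have h2 : (a : AddMonoid.End V) * (b : AddMonoid.End V) = 0 := h1
        exact congrArg (fun f : AddMonoid.End V => f v) h2
      exact NoZeroDivisors.to_isDomain R
    haveI hfinE : Finite (AddMonoid.End V) :=
      Finite.of_injective (fun f : AddMonoid.End V => (f : V → V)) DFunLike.coe_injective
    haveI hfinR : Finite R := inferInstance
    letI hfty : Fintype R := Fintype.ofFinite R
    letI hfield : Field R := Fintype.fieldOfDomain R
    haveI hcharR : CharP R p := by
      rw [CharP.charP_iff_prime_eq_zero hpp]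
      apply Subtype.ext
      change ((p : AddMonoid.End V)) = 0
      ext v
      exact hV v
    let ι : R →+* AddMonoid.End V :=
      { toFun := Subtype.val
        map_one' := rfl
        map_mul' := fun _ _ => rfl
        map_zero' := rfl
        map_add' := fun _ _ => rfl }
    have hιval : ∀ c : R, ι c = (c : AddMonoid.End V) := fun _ => rfl
    have hcomm : ∀ (c : R) (t : L), ι c * ρ t = ρ t * ι c := by
      intro c t
      have ht : t ∈ closure ({x, y} : Set L) := hgen ▸ Subgroup.mem_top t
      have hcx : ι c * ρ x = ρ x * ι c := by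
        rw [hxe, hιval, mul_add, add_mul, (hRc c c.2).1, mul_one, one_mul]
      have hcy : ι c * ρ y = ρ y * ι c := by
        rw [hye, hιval, mul_add, add_mul, (hRc c c.2).2, mul_one, one_mul]
      induction ht using Subgroup.closure_induction with
      | mem a ha =>
        rcases ha with rfl | ha
        · exact hcx
        · rw [Set.mem_singleton_iff] at ha
          rw [ha]
          exact hcy
      | one => rw [map_one, mul_one, one_mul]
      | mul a b _ _ h1 h2 =>
        rw [map_mul, ← mul_assoc, h1, mul_assoc, h2, mul_assoc]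
      | inv a _ h1 =>
        have e1 : ρ a⁻¹ * ρ a = 1 := by rw [← map_mul, inv_mul_cancel, map_one]
        have e2 : ρ a * ρ a⁻¹ = 1 := by rw [← map_mul, mul_inv_cancel, map_one]
        calc ι c * ρ a⁻¹ = (ρ a⁻¹ * ρ a) * (ι c * ρ a⁻¹) := by rw [e1, one_mul]
          _ = ρ a⁻¹ * (ρ a * ι c) * ρ a⁻¹ := by simp only [mul_assoc]
          _ = ρ a⁻¹ * (ι c * ρ a) * ρ a⁻¹ := by rw [h1]
          _ = ρ a⁻¹ * ι c * (ρ a * ρ a⁻¹) := by simp only [mul_assoc]
          _ = ρ a⁻¹ * ι c := by rw [e2, mul_one]
    have hxw : x₁ w = z v₀ := by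
      have h1 : (z : AddMonoid.End V) v₀ = x₁ (y₁ v₀) + y₁ (x₁ v₀) := rfl
      rw [h1, hx₁v₀, map_zero, add_zero]
    have hyw : y₁ w = 0 := congrArg (fun f : AddMonoid.End V => f v₀) hy
    have hzc : ∀ (c : R) (v : V), x₁ ((c : AddMonoid.End V) v) = (c : AddMonoid.End V) (x₁ v) := by
      intro c v
      exact (congrArg (fun f : AddMonoid.End V => f v) (hRc c c.2).1).symm
    have hzd : ∀ (c : R) (v : V), y₁ ((c : AddMonoid.End V) v) = (c : AddMonoid.End V) (y₁ v) := by
      intro c v
      exact (congrArg (fun f : AddMonoid.End V => f v) (hRc c c.2).2).symm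
    have hbij : Function.Bijective (fun u : Fin 2 → R => ι (u 0) v₀ + ι (u 1) w) := by
      constructor
      · -- injective
        have hinj0 : ∀ u : Fin 2 → R, ι (u 0) v₀ + ι (u 1) w = 0 → u = 0 := by
          intro u hu
          have h1 := congrArg x₁ hu
          rw [map_add, map_zero, hιval, hιval, hzc, hzc, hx₁v₀, map_zero, zero_add, hxw] at h1
          -- (u 1) z v₀ = 0
          have hu1 : u 1 = 0 := by
            by_contra hne
            have hne' : ((u 1 * ⟨z, hzR⟩ : R) : AddMonoid.End V) ≠ 0 := by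
              intro e
              have h2 : u 1 * ⟨z, hzR⟩ = 0 := Subtype.ext e
              rcases mul_eq_zero.mp h2 with h3 | h3
              · exact hne h3
              · exact hz0 (congrArg Subtype.val h3)
            exact hv' (hinj _ hne' v₀ h1)
          have hu0 : u 0 = 0 := by
            by_contra hne
            have hne' : ((u 0 : R) : AddMonoid.End V) ≠ 0 := fun e => hne (Subtype.ext e)
            rw [hu1, map_zero] at hu
            have h2 : (u 0 : AddMonoid.End V) v₀ = 0 := by
              have := hu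
              rw [hιval] at this
              simpa using this
            exact hv' (hinj _ hne' v₀ h2)
          funext i
          fin_cases i
          · exact hu0
          · exact hu1
        intro u u' huu
        have h1 : ι ((u - u') 0) v₀ + ι ((u - u') 1) w = 0 := by
          have h2 : ι (u 0) v₀ + ι (u 1) w = ι (u' 0) v₀ + ι (u' 1) w := huu
          simp only [Pi.sub_apply, map_sub]
          change (ι (u 0) v₀ - ι (u' 0) v₀) + (ι (u 1) w - ι (u' 1) w) = 0
          rw [sub_add_sub_comm, h2, sub_self]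
        exact sub_eq_zero.mp (hinj0 _ h1)
      · -- surjective
        let S : AddSubgroup V :=
          { carrier := {v | ∃ u : Fin 2 → R, v = ι (u 0) v₀ + ι (u 1) w}
            zero_mem' := ⟨0, by
              simp only [Pi.zero_apply, map_zero]
              exact (add_zero _).symm⟩
            add_mem' := by
              rintro a b ⟨c, rfl⟩ ⟨d, rfl⟩
              refine ⟨c + d, ?_⟩
              simp only [Pi.add_apply, map_add]
              change _ = (ι (c 0) v₀ + ι (d 0) v₀) + (ι (c 1) w + ι (d 1) w)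
              abel
            neg_mem' := by
              rintro a ⟨c, rfl⟩
              refine ⟨-c, ?_⟩
              simp only [Pi.neg_apply, map_neg]
              change _ = -(ι (c 0) v₀) + -(ι (c 1) w)
              abel }
        have hv₀S : v₀ ∈ S := ⟨![1, 0], by
          simp only [Matrix.cons_val_zero, Matrix.cons_val_one, map_zero, map_one]
          exact (add_zero _).symm⟩
        have hStop : S = ⊤ := by
          rcases hirr' S (by
            rintro v ⟨u, rfl⟩
            refine ⟨![u 1 * ⟨z, hzR⟩, 0], ?_⟩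
            rw [map_add, hιval, hιval, hzc, hzc, hx₁v₀, map_zero, zero_add, hxw]
            simp only [Matrix.cons_val_zero, Matrix.cons_val_one, map_zero]
            exact (add_zero _).symm) (by
            rintro v ⟨u, rfl⟩
            refine ⟨![0, u 0], ?_⟩
            rw [map_add, hιval, hιval, hzd, hzd, hyw, map_zero, add_zero]
            simp only [Matrix.cons_val_zero, Matrix.cons_val_one, map_zero]
            exact (zero_add _).symm) with h | h
          · exfalso
            rw [h] at hv₀S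
            exact hv' hv₀S
          · exact h
        intro v
        have : v ∈ S := hStop ▸ AddSubgroup.mem_top v
        obtain ⟨u, hu⟩ := this
        exact ⟨u, hu.symm⟩
    have hzpow : ∀ (t : L) (t₁ : AddMonoid.End V), ρ t = t₁ + 1 → t₁ * t₁ = 0 → ρ t ^ p = 1 := by
      intro t t₁ hte htt
      have hxpow : ∀ n : ℕ, ρ t ^ n = (n : AddMonoid.End V) * t₁ + 1 := by
        intro n
        induction n with
        | zero => simp
        | succ n ih =>
          rw [pow_succ, ih, hte, add_mul, mul_add, mul_add, mul_assoc, htt, mul_zero, zero_add, mul_one, one_mul]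
          push_cast
          rw [add_mul]
          simp only [one_mul]
          abel
      rw [hxpow]
      have : (p : AddMonoid.End V) = 0 := by
        ext v
        exact hV v
      rw [this, zero_mul, zero_add]
    have hxp : ρ x ^ p = 1 := hzpow x x₁ hxe hx
    have hyp : ρ y ^ p = 1 := hzpow y y₁ hye hy
    have hx1 : ρ x ≠ 1 := by
      intro e
      apply hx₁0
      rw [hx₁, e, sub_self]
    haveI hfinR' : Finite R := hfinR
    exact quad_two_dim_gen hcl hodd ρ ι hcomm v₀ w hbij x y hgen hxp hyp hx1 hirr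

/-- The irreducible case in group-theoretic language. -/
theorem central_of_quad_gen {p : ℕ} [Fact p.Prime] {Pr : (X : Type u) → [Group X] → Prop}
    (hcl : QuadClass p Pr) {X : Type u} [Group X] [Finite X]
    (hodd : Pr X) (W : Subgroup X) [hWn : W.Normal] (hcomm : ∀ a ∈ W, ∀ b ∈ W, a * b = b * a)
    (hexp : ∀ w ∈ W, w ^ p = 1) (x y : X)
    (hx : ∀ w ∈ W, Commute ⁅w, x⁆ x) (hy : ∀ w ∈ W, Commute ⁅w, y⁆ y)
    (hmin : ∀ S : Subgroup X, S ≤ W → (∀ w ∈ S, x * w * x⁻¹ ∈ S) → (∀ w ∈ S, y * w * y⁻¹ ∈ S) → S = ⊥ ∨ S = W) :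
    (∀ w ∈ W, x * w = w * x) ∧ (∀ w ∈ W, y * w = w * y) := by
  classical
  letI : CommGroup W := { (inferInstance : Group W) with
    mul_comm := fun a b => Subtype.ext (hcomm a a.2 b b.2) }
  let V := Additive W
  let cj : X → V → V := fun t v => Additive.ofMul ⟨t * ((Additive.toMul v : W) : X) * t⁻¹, hWn.conj_mem _ (Additive.toMul v).2 t⟩
  have hcjadd : ∀ t a b, cj t (a + b) = cj t a + cj t b := by
    intro t a b
    apply Additive.toMul.injective
    apply Subtype.ext
    change t * (((Additive.toMul a : W) : X) * ((Additive.toMul b : W) : X)) * t⁻¹ =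
      (t * ((Additive.toMul a : W) : X) * t⁻¹) * (t * ((Additive.toMul b : W) : X) * t⁻¹)
    group
  have hcj0 : ∀ t, cj t 0 = 0 := by
    intro t
    apply Additive.toMul.injective
    apply Subtype.ext
    change t * 1 * t⁻¹ = 1
    group
  let cjE : X → AddMonoid.End V := fun t =>
    AddMonoidHom.mk' (cj t) (hcjadd t)
  have hcjE : ∀ t v, cjE t v = cj t v := fun _ _ => rfl
  let ρX : X →* AddMonoid.End V :=
    { toFun := cjE
      map_one' := by
        refine AddMonoidHom.ext fun v => ?_
        apply Additive.toMul.injective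
        apply Subtype.ext
        change 1 * ((Additive.toMul v : W) : X) * 1⁻¹ = _
        rw [inv_one, mul_one, one_mul]
        rfl
      map_mul' := by
        intro a b
        refine AddMonoidHom.ext fun v => ?_
        apply Additive.toMul.injective
        apply Subtype.ext
        change (a * b) * ((Additive.toMul v : W) : X) * (a * b)⁻¹ =
          a * (b * ((Additive.toMul v : W) : X) * b⁻¹) * a⁻¹
        group }
  have hρX : ∀ (t : X) (v : V), ((Additive.toMul (ρX t v) : W) : X) = t * ((Additive.toMul v : W) : X) * t⁻¹ :=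
    fun _ _ => rfl
  let L := closure ({x, y} : Set X)
  have hxL : x ∈ L := subset_closure (Set.mem_insert _ _)
  have hyL : y ∈ L := subset_closure (Set.mem_insert_of_mem _ rfl)
  let ρ : L →* AddMonoid.End V := ρX.comp L.subtype
  have hgen : closure ({⟨x, hxL⟩, ⟨y, hyL⟩} : Set L) = ⊤ := by
    have h1 := Subgroup.closure_closure_coe_preimage (k := ({x, y} : Set X))
    rw [← h1]
    congr 1
    ext a
    simp only [Set.mem_insert_iff, Set.mem_singleton_iff, Set.mem_preimage]
    constructor
    · rintro (rfl | rfl)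
      · exact Or.inl rfl
      · exact Or.inr rfl
    · rintro (h | h)
      · exact Or.inl (Subtype.ext h)
      · exact Or.inr (Subtype.ext h)
  have hsub : ∀ (t : X) (v : V), ((Additive.toMul ((ρX t - 1) v) : W) : X) =
      (t * ((Additive.toMul v : W) : X) * t⁻¹) * ((Additive.toMul v : W) : X)⁻¹ := by
    intro t v
    change ((Additive.toMul (ρX t v - v) : W) : X) = _
    rw [toMul_sub, div_eq_mul_inv]
    rfl
  have hquad : ∀ t : X, (∀ w ∈ W, Commute ⁅w, t⁆ t) → (ρX t - 1) * (ρX t - 1) = 0 := by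
    intro t ht
    refine AddMonoidHom.ext fun v => ?_
    apply Additive.toMul.injective
    apply Subtype.ext
    change ((Additive.toMul ((ρX t - 1) ((ρX t - 1) v)) : W) : X) = 1
    rw [hsub, hsub]
    set w : X := ((Additive.toMul v : W) : X) with hw
    have hwW : w ∈ W := (Additive.toMul v).2
    have h1 : Commute ⁅w, t⁆ t := ht w hwW
    have h2 : Commute (t * w * t⁻¹ * w⁻¹) t := by
      have h3 : t * w * t⁻¹ * w⁻¹ = ⁅w, t⁆⁻¹ := by
        rw [commutatorElement_inv]
        rfl
      rw [h3]
      exact h1.inv_left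
    have h4 : t * (t * w * t⁻¹ * w⁻¹) * t⁻¹ = t * w * t⁻¹ * w⁻¹ := by
      rw [← h2.eq, mul_assoc, mul_inv_cancel, mul_one]
    rw [h4, mul_inv_cancel]
  have hLodd : Pr L := hcl.sub L hodd
  haveI hWfin : Finite V := (inferInstance : Finite W)
  have hV : ∀ v : V, p • v = 0 := by
    intro v
    apply Additive.toMul.injective
    apply Subtype.ext
    rw [toMul_nsmul]
    exact hexp _ (Additive.toMul v).2
  have hρx : ρ ⟨x, hxL⟩ = ρX x := rfl
  have hρy : ρ ⟨y, hyL⟩ = ρX y := rfl
  have hirr : ∀ S : AddSubgroup V, (∀ v ∈ S, ρ ⟨x, hxL⟩ v ∈ S) → (∀ v ∈ S, ρ ⟨y, hyL⟩ v ∈ S) →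
      S = ⊥ ∨ S = ⊤ := by
    intro S h1 h2
    let S' : Subgroup X :=
      { carrier := {g | ∃ h : g ∈ W, (Additive.ofMul (⟨g, h⟩ : W) : V) ∈ S}
        one_mem' := ⟨W.one_mem, S.zero_mem⟩
        mul_mem' := by
          rintro a b ⟨ha, hsa⟩ ⟨hb, hsb⟩
          exact ⟨W.mul_mem ha hb, S.add_mem hsa hsb⟩
        inv_mem' := by
          rintro a ⟨ha, hsa⟩
          exact ⟨W.inv_mem ha, S.neg_mem hsa⟩ }
    have hS'le : S' ≤ W := fun g hg => hg.1
    have hS'x : ∀ w ∈ S', x * w * x⁻¹ ∈ S' := by
      rintro w ⟨hw, hsw⟩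
      exact ⟨hWn.conj_mem _ hw x, h1 _ hsw⟩
    have hS'y : ∀ w ∈ S', y * w * y⁻¹ ∈ S' := by
      rintro w ⟨hw, hsw⟩
      exact ⟨hWn.conj_mem _ hw y, h2 _ hsw⟩
    rcases hmin S' hS'le hS'x hS'y with h | h
    · left
      rw [eq_bot_iff]
      intro v hv
      have hv' : ((Additive.toMul v : W) : X) ∈ S' := ⟨(Additive.toMul v).2, hv⟩
      rw [h, Subgroup.mem_bot] at hv'
      rw [AddSubgroup.mem_bot]
      apply Additive.toMul.injective
      exact Subtype.ext hv'
    · right
      rw [eq_top_iff]
      intro v _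
      have hv' : ((Additive.toMul v : W) : X) ∈ S' := by
        rw [h]
        exact (Additive.toMul v).2
      obtain ⟨_, hv''⟩ := hv'
      exact hv''
  have hq1 : (ρ ⟨x, hxL⟩ - 1) * (ρ ⟨x, hxL⟩ - 1) = 0 := hquad x hx
  have hq2 : (ρ ⟨y, hyL⟩ - 1) * (ρ ⟨y, hyL⟩ - 1) = 0 := hquad y hy
  obtain ⟨hx1, hy1⟩ := quad_irreducible_gen hcl hV hLodd ρ ⟨x, hxL⟩ ⟨y, hyL⟩ hgen hq1 hq2 hirr
  have hfinal : ∀ t : X, ρX t = 1 → ∀ w ∈ W, t * w = w * t := by
    intro t ht w hw
    have h1 := hρX t (Additive.ofMul (⟨w, hw⟩ : W))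
    rw [ht] at h1
    change w = t * w * t⁻¹ at h1
    rw [eq_mul_inv_iff_mul_eq] at h1
    exact h1.symm
  exact ⟨hfinal x hx1, hfinal y hy1⟩

/-- **Two quadratic elements.** -/
theorem quad_pair_gen {p : ℕ} [Fact p.Prime] {Pr : (X : Type u) → [Group X] → Prop}
    (hcl : QuadClass p Pr) : ∀ (n : ℕ) (X : Type u) [Group X] [Finite X]
    (_ : Pr X) (P : Subgroup X) [P.Normal] (_ : IsPGroup p P) (x y : X)
    (_ : ∀ w ∈ P, Commute ⁅w, x⁆ x) (_ : ∀ w ∈ P, Commute ⁅w, y⁆ y)
    (_ : P ⊔ closure ({x, y} : Set X) = ⊤) (_ : Nat.card P = n)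
    (t : X), (orderOf t).Coprime p → ∀ w ∈ P, t * w = w * t := by
  classical
  intro n
  induction n using Nat.strong_induction_on with
  | _ n ih =>
    intro X _ _ hodd P hPn hP x y hx hy hgen hcard t ht w hw
    by_cases hPb : P = ⊥
    · subst hPb
      rw [Subgroup.mem_bot] at hw
      rw [hw, mul_one, one_mul]
    obtain ⟨W, hW, hWP⟩ := Cfsg.Agent.Lib.Basic.exists_isMinNormal_le hPn hPb
    obtain ⟨hWc, hWexp⟩ := Cfsg.Agent.Lib.OddLocal.minNormal_in_pGroup P hP W hW hWP
    obtain ⟨hWn, hWne, hWmin⟩ := id hW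
    -- invariant subgroups of W are normal
    have hmin : ∀ S : Subgroup X, S ≤ W → (∀ w ∈ S, x * w * x⁻¹ ∈ S) → (∀ w ∈ S, y * w * y⁻¹ ∈ S) →
        S = ⊥ ∨ S = W := by
      intro S hSW h1 h2
      have hxN : x ∈ normalizer (S : Set X) :=
        Cfsg.Agent.Lib.Coprime.mem_normalizer_of_conj_le S x h1
      have hyN : y ∈ normalizer (S : Set X) :=
        Cfsg.Agent.Lib.Coprime.mem_normalizer_of_conj_le S y h2
      have hPN : P ≤ normalizer (S : Set X) := by
        intro b hb
        apply Cfsg.Agent.Lib.Coprime.mem_normalizer_of_conj_le S b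
        intro s hs
        have : b * s * b⁻¹ = s := by
          rw [← hWc s (hSW hs) b hb, mul_inv_cancel_right]
        rw [this]
        exact hs
      have hcl : closure ({x, y} : Set X) ≤ normalizer (S : Set X) := by
        rw [Subgroup.closure_le]
        rintro a (rfl | ha)
        · exact hxN
        · rw [Set.mem_singleton_iff] at ha
          rw [ha]
          exact hyN
      have hN : normalizer (S : Set X) = ⊤ := by
        rw [eq_top_iff, ← hgen]
        exact sup_le hPN hcl
      have hSn : S.Normal := by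
        rw [← Subgroup.normalizer_eq_top_iff]
        exact hN
      exact hWmin S hSn hSW
    have hWcomm : ∀ a ∈ W, ∀ b ∈ W, a * b = b * a := fun a ha b hb => hWc a ha b (hWP hb)
    obtain ⟨hxW, hyW⟩ := central_of_quad_gen hcl hodd W hWcomm hWexp x y
      (fun w hw => hx w (hWP hw)) (fun w hw => hy w (hWP hw)) hmin
    -- W is central in X
    have hWcen : ∀ a ∈ W, ∀ b : X, a * b = b * a := by
      intro a ha b
      have hC : (⊤ : Subgroup X) ≤ centralizer (W : Set X) := by
        rw [← hgen]
        refine sup_le ?_ ?_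
        · intro c hc
          rw [Subgroup.mem_centralizer_iff]
          intro d hd
          exact hWc d hd c hc
        · rw [Subgroup.closure_le]
          rintro c (rfl | hc)
          · rw [SetLike.mem_coe, Subgroup.mem_centralizer_iff]
            intro d hd
            exact (hxW d hd).symm
          · rw [Set.mem_singleton_iff] at hc
            rw [hc, SetLike.mem_coe, Subgroup.mem_centralizer_iff]
            intro d hd
            exact (hyW d hd).symm
      exact Subgroup.mem_centralizer_iff.mp (hC (Subgroup.mem_top b)) a ha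
    -- pass to the quotient
    let π := QuotientGroup.mk' W
    have hπsurj : Function.Surjective π := QuotientGroup.mk'_surjective W
    have hquot : Pr (X ⧸ W) := hcl.surj π hπsurj hodd
    have hPbar : IsPGroup p (P.map π) := hP.map π
    haveI hPbarn : (P.map π).Normal := Subgroup.Normal.map hPn π hπsurj
    have hlt : Nat.card (P.map π) < n := by
      rw [← hcard]
      let f : P → P.map π := fun a => ⟨π a, a, a.2, rfl⟩
      have hfs : Function.Surjective f := by
        rintro ⟨_, a, ha, rfl⟩
        exact ⟨⟨a, ha⟩, rfl⟩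
      have hle := Nat.card_le_card_of_surjective f hfs
      refine lt_of_le_of_ne hle ?_
      intro hEq
      have hb := hfs.bijective_of_nat_card_le hEq.symm.le
      rcases Subgroup.bot_or_exists_ne_one W with h0 | ⟨a, haW, ha1⟩
      · exact hWne h0
      · have h2 : f ⟨a, hWP haW⟩ = f 1 := by
          apply Subtype.ext
          change π a = π 1
          rw [map_one]
          exact (QuotientGroup.eq_one_iff a).mpr haW
        have h3 := hb.1 h2
        exact ha1 (congrArg Subtype.val h3)
    have hIH := ih _ hlt (X ⧸ W) hquot (P.map π) hPbar (π x) (π y)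
      (by
        rintro _ ⟨v, hv, rfl⟩
        have := hx v hv
        have h2 := (this.map π)
        rwa [map_commutatorElement] at h2)
      (by
        rintro _ ⟨v, hv, rfl⟩
        have := hy v hv
        have h2 := (this.map π)
        rwa [map_commutatorElement] at h2)
      (by
        rw [eq_top_iff]
        rintro z -
        obtain ⟨z', rfl⟩ := hπsurj z
        have hz' : z' ∈ P ⊔ closure ({x, y} : Set X) := hgen ▸ Subgroup.mem_top z'
        have h1 : π z' ∈ (P ⊔ closure ({x, y} : Set X)).map π := ⟨z', hz', rfl⟩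
        rw [Subgroup.map_sup, MonoidHom.map_closure] at h1
        have h2 : π '' ({x, y} : Set X) = {π x, π y} := by
          rw [Set.image_pair]
        rwa [h2] at h1)
      rfl (π t)
      (by
        apply Nat.Coprime.coprime_dvd_left (orderOf_map_dvd π t) ht)
    have hcomm := hIH (π w) ⟨w, hw, rfl⟩
    -- the commutator
    set c := t * w * t⁻¹ * w⁻¹ with hc
    have hcW : c ∈ W := by
      have h1 : π c = 1 := by
        rw [hc, map_mul, map_mul, map_mul, map_inv, map_inv, hcomm]
        group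
      exact (QuotientGroup.eq_one_iff c).mp h1
    have hcc : ∀ b : X, c * b = b * c := hWcen c hcW
    have hconj : t * w * t⁻¹ = c * w := by
      rw [hc, inv_mul_cancel_right]
    have hpow : ∀ k : ℕ, t ^ k * w * (t ^ k)⁻¹ = c ^ k * w := by
      intro k
      induction k with
      | zero => simp
      | succ k ihk =>
        calc t ^ (k + 1) * w * (t ^ (k + 1))⁻¹ = t * (t ^ k * w * (t ^ k)⁻¹) * t⁻¹ := by
              rw [pow_succ', mul_inv_rev]
              simp only [mul_assoc]
          _ = t * (c ^ k * w) * t⁻¹ := by rw [ihk]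
          _ = c ^ k * (t * w * t⁻¹) := by
              have : Commute (c ^ k) t := (show Commute c t from hcc t).pow_left k
              rw [← mul_assoc t, ← this.eq]
              group
          _ = c ^ (k + 1) * w := by
              rw [hconj, pow_succ]
              exact (mul_assoc _ _ _).symm
    have h1 := hpow (orderOf t)
    rw [pow_orderOf_eq_one, one_mul, inv_one, mul_one] at h1
    have h2 : c ^ orderOf t = 1 := by
      exact mul_eq_right.mp h1.symm
    have h3 : c ^ p = 1 := hWexp c hcW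
    have h4 : c = 1 := by
      have h5 := orderOf_dvd_of_pow_eq_one h2
      have h6 := orderOf_dvd_of_pow_eq_one h3
      have h7 := Nat.dvd_gcd h5 h6
      rw [Nat.Coprime.gcd_eq_one ht] at h7
      exact orderOf_eq_one_iff.mp (Nat.dvd_one.mp h7)
    rw [h4, one_mul] at hconj
    rw [mul_inv_eq_iff_eq_mul] at hconj
    exact hconj

/-- Two conjugates of elements acting quadratically generate a `p`-group modulo the centralizer. -/
theorem quad_pair_pow_gen {p : ℕ} [Fact p.Prime] {Pr : (X : Type u) → [Group X] → Prop}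
    (hcl : QuadClass p Pr) {G : Type u} [Group G] [Finite G]
    (hodd : Pr G) (P : Subgroup G) [P.Normal] (hP : IsPGroup p P) (x y : G)
    (hx : ∀ w ∈ P, Commute ⁅w, x⁆ x) (hy : ∀ w ∈ P, Commute ⁅w, y⁆ y) (z : G)
    (hz : z ∈ closure ({x, y} : Set G)) :
    ∃ k : ℕ, ∀ w ∈ P, z ^ (p ^ k) * w = w * z ^ (p ^ k) := by
  classical
  have hpp : p.Prime := Fact.out
  let X : Subgroup G := P ⊔ closure ({x, y} : Set G)
  have hPX : P ≤ X := le_sup_left
  have hclX : closure ({x, y} : Set G) ≤ X := le_sup_right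
  have hxX : x ∈ X := hclX (Subgroup.subset_closure (Set.mem_insert _ _))
  have hyX : y ∈ X := hclX (Subgroup.subset_closure (Set.mem_insert_of_mem _ rfl))
  have hXodd : Pr X := hcl.sub X hodd
  have hP' : IsPGroup p (P.subgroupOf X) := by
    intro g
    obtain ⟨k, hk⟩ := hP ⟨g.1.1, g.2⟩
    refine ⟨k, ?_⟩
    apply Subtype.ext
    apply Subtype.ext
    have h := congrArg Subtype.val hk
    exact h
  have hgen : P.subgroupOf X ⊔ closure ({⟨x, hxX⟩, ⟨y, hyX⟩} : Set X) = ⊤ := by
    apply Subgroup.map_injective X.subtype_injective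
    rw [Subgroup.map_sup, ← MonoidHom.range_eq_map, Subgroup.range_subtype, Subgroup.subgroupOf_map_subtype,
      MonoidHom.map_closure, Set.image_pair, inf_eq_left.mpr hPX]
    rfl
  obtain ⟨k, m, hord, hm⟩ := Nat.exists_eq_pow_mul_and_not_dvd
    (n := orderOf z) (orderOf_pos z).ne' p hpp.ne_one
  refine ⟨k, fun w hw => ?_⟩
  set t := z ^ (p ^ k) with ht
  have htX : t ∈ X := X.pow_mem (hclX hz) _
  have htm : t ^ m = 1 := by
    rw [ht, ← pow_mul, ← hm, pow_orderOf_eq_one]
  have htc : (orderOf t).Coprime p := by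
    have h1 := orderOf_dvd_of_pow_eq_one htm
    apply Nat.Coprime.coprime_dvd_left h1
    rw [Nat.coprime_comm]
    exact (Nat.Prime.coprime_iff_not_dvd hpp).mpr hord
  have h := quad_pair_gen hcl _ X hXodd (P.subgroupOf X) hP' ⟨x, hxX⟩ ⟨y, hyX⟩
    (by
      rintro ⟨w, hwX⟩ hw
      have h1 := hx w hw
      apply Subtype.ext
      exact h1)
    (by
      rintro ⟨w, hwX⟩ hw
      have h1 := hy w hw
      apply Subtype.ext
      exact h1)
    hgen rfl ⟨t, htX⟩ (by rwa [Subgroup.orderOf_mk]) ⟨w, hPX hw⟩ hw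
  exact congrArg Subtype.val h

/-- **`p`-stability**, normal case. -/
theorem pstable_normal_gen {p : ℕ} [Fact p.Prime] {Pr : (X : Type u) → [Group X] → Prop}
    (hcl : QuadClass p Pr) {G : Type u} [Group G] [Finite G]
    (hodd : Pr G) (P : Subgroup G) [P.Normal] (hP : IsPGroup p P)
    (C : Subgroup G) [hCn : C.Normal] (hC : ∀ g : G, (∀ w ∈ P, g * w = w * g) → g ∈ C)
    (A : Subgroup G) (hquad : ∀ a ∈ A, ∀ w ∈ P, Commute ⁅w, a⁆ a) (hA : IsPGroup p A) :
    A.map (QuotientGroup.mk' C) ≤ Cfsg.pCore p (G ⧸ C) := by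
  classical
  have hpp : p.Prime := Fact.out
  let π := QuotientGroup.mk' C
  have hπ : Function.Surjective π := QuotientGroup.mk'_surjective C
  let Δ : Set (G ⧸ C) := {b | ∃ (g : G) (a : G), a ∈ A ∧ b = π (g * a * g⁻¹)}
  have hΔ : Cfsg.Agent.Lib.Invol.ConjClosed Δ := by
    rintro _ ⟨g, a, ha, rfl⟩ h
    obtain ⟨h', rfl⟩ := hπ h
    refine ⟨h' * g, a, ha, ?_⟩
    simp only [map_mul, map_inv, mul_inv_rev, mul_assoc]
  -- quadratic conjugates
  have hconjq : ∀ (g a : G), a ∈ A → ∀ w ∈ P, Commute ⁅w, g * a * g⁻¹⁆ (g * a * g⁻¹) := by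
    intro g a ha w hw
    have hw' : g⁻¹ * w * g ∈ P := by
      have := (inferInstance : P.Normal).conj_mem w hw g⁻¹
      rwa [inv_inv] at this
    have h1 := hquad a ha _ hw'
    have h2 : ⁅w, g * a * g⁻¹⁆ = g * ⁅g⁻¹ * w * g, a⁆ * g⁻¹ := by
      simp only [commutatorElement_def]
      group
    rw [h2]
    exact (h1.map (MulAut.conj g).toMonoidHom : _)
  have hpair : ∀ a ∈ Δ, ∀ b ∈ Δ, IsPGroup p (closure ({a, b} : Set (G ⧸ C))) := by
    rintro _ ⟨g₁, a₁, ha₁, rfl⟩ _ ⟨g₂, a₂, ha₂, rfl⟩
    set x := g₁ * a₁ * g₁⁻¹ with hx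
    set y := g₂ * a₂ * g₂⁻¹ with hy
    rintro ⟨z', hz'⟩
    have h1 : closure ({π x, π y} : Set (G ⧸ C)) = (closure ({x, y} : Set G)).map π := by
      rw [MonoidHom.map_closure, Set.image_pair]
    rw [h1] at hz'
    obtain ⟨z, hz, rfl⟩ := hz'
    obtain ⟨k, hk⟩ := quad_pair_pow_gen hcl hodd P hP x y (hconjq g₁ a₁ ha₁) (hconjq g₂ a₂ ha₂) z hz
    refine ⟨k, ?_⟩
    apply Subtype.ext
    have h2 : z ^ (p ^ k) ∈ C := hC _ hk
    change π z ^ (p ^ k) = 1
    rw [← map_pow]
    exact (QuotientGroup.eq_one_iff _).mpr h2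
  have hcl := Cfsg.Agent.Lib.Invol.isPGroup_closure_of_pairs p _ rfl Δ hΔ hpair
  have hnorm : (closure Δ).Normal := by
    refine ⟨fun n hn g => ?_⟩
    induction hn using Subgroup.closure_induction with
    | mem a ha => exact Subgroup.subset_closure (hΔ a ha g)
    | one => simp
    | mul a b _ _ h1 h2 =>
      have : g * (a * b) * g⁻¹ = (g * a * g⁻¹) * (g * b * g⁻¹) := by group
      rw [this]
      exact Subgroup.mul_mem _ h1 h2
    | inv a _ h1 =>
      have : g * a⁻¹ * g⁻¹ = (g * a * g⁻¹)⁻¹ := by group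
      rw [this]
      exact Subgroup.inv_mem _ h1
  have hle : closure Δ ≤ Cfsg.pCore p (G ⧸ C) := le_sSup ⟨hnorm, hcl⟩
  rintro _ ⟨a, ha, rfl⟩
  apply hle
  apply Subgroup.subset_closure
  exact ⟨1, a, ha, by simp; rfl⟩

end Cfsg.Agent.Lib.PLocal
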